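import Groth.Agent.Lib.Helper2.ExtDepth.Lin
import Groth.Agent.Lib.Helper13.ModSiteUnitor
import Groth.Agent.Lib.Helper5.UnitSections
import Groth.Agent.Lib.Helper13.SheafHomExact

/-!
# Global sections of the internal Hom: `Γ(X, ℋom(F, G)) = Hom(F, G)`, linearly (helper2)
-/

set_option autoImplicit false
universe u
open CategoryTheory CategoryTheory.Limits AlgebraicGeometry TopologicalSpace Opposite MonoidalCategory
open Scheme.Modules

noncomputable section

namespace Groth.Agent.Lib.Helper2.ExtTilde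

open Groth.Agent.Lib.Lead.HomExt Groth.Agent.Lib.Helper3.QCSec Groth.Agent.Lib.Helper3.HomMk
open Groth.Agent.Lib.Helper13.ModSiteTensor Groth.Agent.Lib.Helper13
open Groth.Agent.Lib.Helper2.ExtDepth

variable {X : Scheme.{u}}

theorem whiskerRight_smul {R : Type u} [CommRing R] (P Q : ModuleCat.{u} R) (g : P ⟶ P) (r : R)
    (hg : ∀ m : P, g.hom m = r • m) (t : (P ⊗ Q : ModuleCat.{u} R)) :
    (g ▷ Q).hom t = r • t := by
  induction t using TensorProduct.induction_on with
  | zero => exact (map_zero _).trans (smul_zero r).symm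
  | tmul a m =>
    rw [ModuleCat.MonoidalCategory.whiskerRight_apply, hg, TensorProduct.smul_tmul']
  | add x y hx hy =>
    exact (map_add _ x y).trans ((congrArg₂ (· + ·) hx hy).trans (smul_add r x y).symm)

theorem tensor_map_mulHom_left (f : Γ(X, ⊤)) (A G : X.Modules) :
    ((ModSite.tensorBi X.sheaf).map (mulHom f A)).app G =
      mulHom f (((ModSite.tensorBi X.sheaf).obj A).obj G) := by
  change (shf X.sheaf).map (MonoidalCategoryStruct.whiskerRight (C := PMod X.sheaf)
    ((fgt X.sheaf).map (mulHom f A)) ((fgt X.sheaf).obj G)) = _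
  apply ((shfAdj X.sheaf).homEquiv _ _).injective
  rw [Adjunction.homEquiv_unit, Adjunction.homEquiv_unit]
  erw [← (shfAdj X.sheaf).unit.naturality]
  ext U t
  have key := whiskerRight_smul (R := X.sheaf.obj.obj U) (((fgt X.sheaf).obj A).obj U)
    (((fgt X.sheaf).obj G).obj U) (((fgt X.sheaf).map (mulHom f A)).app U) (rT f U.unop)
    (fun m => rfl) t
  let η := (ModuleCat.Hom.hom (((shfAdj X.sheaf).unit.app
    ((fgt X.sheaf).obj A ⊗ (fgt X.sheaf).obj G)).app U))
  change η ((ModuleCat.Hom.hom ((((fgt X.sheaf).map (mulHom f A)).app U) ▷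
    (((fgt X.sheaf).obj G).obj U))) t) = (rT f U.unop) • η t
  rw [key]
  exact map_smul η _ t

/-- `ℋom(F, -)` commutes with multiplication by a global function. -/
theorem sheafHom_map_mulHom (f : Γ(X, ⊤)) (F G : X.Modules)
    [ModSite.HasSheafHom (O := X.sheaf) F] :
    (ModSite.sheafHom (O := X.sheaf) F).map (mulHom f G) =
      mulHom f ((ModSite.sheafHom (O := X.sheaf) F).obj G) := by
  let adj := ModSite.sheafHomAdj (O := X.sheaf) F
  apply (adj.homEquiv _ _).symm.injective
  rw [Adjunction.homEquiv_counit, Adjunction.homEquiv_counit]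
  have h1 := adj.counit.naturality (mulHom f G)
  have h2 : ((ModSite.tensorBi X.sheaf).flip.obj F).map
      (mulHom f ((ModSite.sheafHom (O := X.sheaf) F).obj G)) =
      mulHom f _ := tensor_map_mulHom_left f _ F
  rw [h2]
  exact h1.trans (mulHom_comp f (adj.counit.app G)).symm

open Groth.Agent.Lib.Helper13.ModSiteUnitor Groth.Agent.Lib.Helper13.SheafHomExact

/-- `Hom(F, G) ≃+ Hom(O, ℋom(F, G))` -/
def homToUnit (F G : X.Modules) [ModSite.HasSheafHom (O := X.sheaf) F] :
    (F ⟶ G) ≃+ (ModSite.unit X.sheaf ⟶ (ModSite.sheafHom (O := X.sheaf) F).obj G) :=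
  (homCongrLeft ((leftUnitorIso X.sheaf).app F) G).symm.trans
    ((ModSite.sheafHomAdj (O := X.sheaf) F).homAddEquiv (ModSite.unit X.sheaf) G)

theorem tr_homToUnit (F G : X.Modules) [ModSite.HasSheafHom (O := X.sheaf) F] (φ : F ⟶ G) :
    tr (O := X.sheaf) F (homToUnit F G φ) = ((leftUnitorIso X.sheaf).app F).hom ≫ φ :=
  Equiv.symm_apply_apply _ _

theorem homToUnit_comp (F : X.Modules) {G G' : X.Modules} [ModSite.HasSheafHom (O := X.sheaf) F]
    (φ : F ⟶ G) (g : G ⟶ G') :
    homToUnit F G' (φ ≫ g) = homToUnit F G φ ≫ (ModSite.sheafHom (O := X.sheaf) F).map g := by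
  apply tr_injective (O := X.sheaf) F
  rw [tr_homToUnit]
  have h := ((ModSite.sheafHomAdj (O := X.sheaf) F).homEquiv_naturality_right_symm
    (homToUnit F G φ) g)
  refine Eq.trans ?_ h.symm
  have h2 := tr_homToUnit F G φ
  dsimp only [tr] at h2
  exact ((congrArg (· ≫ g) h2).trans (Category.assoc _ _ _)).symm

theorem comp_homToUnit {F F' : X.Modules} (G : X.Modules) [ModSite.HasSheafHom (O := X.sheaf) F]
    [ModSite.HasSheafHom (O := X.sheaf) F'] (f : F' ⟶ F) (φ : F ⟶ G) :
    homToUnit F' G (f ≫ φ) = homToUnit F G φ ≫ (ExtSupp.sheafHomMap (O := X.sheaf) f).app G := by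
  apply tr_injective (O := X.sheaf) F'
  rw [tr_homToUnit, tr_sheafHomMap, tr_homToUnit]
  have h := (leftUnitorIso X.sheaf).hom.naturality f
  exact ((Category.assoc _ _ _).symm.trans (congrArg (· ≫ φ) h.symm)).trans (Category.assoc _ _ _)

/-- `Hom(F, G) → Γ(X, ℋom(F, G))` -/
def homToSec (F G : X.Modules) [ModSite.HasSheafHom (O := X.sheaf) F] :
    (F ⟶ G) →+ Γ((ModSite.sheafHom (O := X.sheaf) F).obj G, ⊤) where
  toFun φ := Groth.Agent.Lib.Helper5.evTop _ (homToUnit F G φ)
  map_zero' := by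
    rw [map_zero]; rfl
  map_add' φ ψ := by
    rw [map_add]; rfl

theorem homToSec_apply (F G : X.Modules) [ModSite.HasSheafHom (O := X.sheaf) F] (φ : F ⟶ G) :
    homToSec F G φ = Scheme.Modules.Hom.app (homToUnit F G φ) ⊤ (1 : Γ(X, ⊤)) := rfl

theorem homToSec_bijective (F G : X.Modules) [ModSite.HasSheafHom (O := X.sheaf) F] :
    Function.Bijective (homToSec F G) :=
  (Groth.Agent.Lib.Helper5.bijective_evTop _).comp (homToUnit F G).bijective

theorem homToSec_comp (F : X.Modules) {G G' : X.Modules} [ModSite.HasSheafHom (O := X.sheaf) F]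
    (φ : F ⟶ G) (g : G ⟶ G') :
    homToSec F G' (φ ≫ g) =
      Scheme.Modules.Hom.app ((ModSite.sheafHom (O := X.sheaf) F).map g) ⊤ (homToSec F G φ) := by
  rw [homToSec_apply, homToUnit_comp]
  rfl

theorem comp_homToSec {F F' : X.Modules} (G : X.Modules) [ModSite.HasSheafHom (O := X.sheaf) F]
    [ModSite.HasSheafHom (O := X.sheaf) F'] (f : F' ⟶ F) (φ : F ⟶ G) :
    homToSec F' G (f ≫ φ) =
      Scheme.Modules.Hom.app ((ExtSupp.sheafHomMap (O := X.sheaf) f).app G) ⊤ (homToSec F G φ) := by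
  rw [homToSec_apply, comp_homToUnit]
  rfl

theorem homToSec_mulHom (F G : X.Modules) [ModSite.HasSheafHom (O := X.sheaf) F] (r : Γ(X, ⊤))
    (φ : F ⟶ G) : homToSec F G (φ ≫ mulHom r G) = r • homToSec F G φ := by
  rw [homToSec_comp, sheafHom_map_mulHom, mulHom_app]
  congr 1
  exact rres_self _ r

end Groth.Agent.Lib.Helper2.ExtTilde
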