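import Groth.Agent.Lib.Helper2.ExtTilde.Ext1
import Groth.Agent.Lib.Helper2.ExtDepth.Global

/-!
# Sections of the local Ext sheaves over an affine open (helper2)
-/

set_option autoImplicit false
set_option linter.style.haveILetI false
universe u
open CategoryTheory CategoryTheory.Limits AlgebraicGeometry TopologicalSpace Opposite
open Scheme.Modules

noncomputable section

namespace Groth.Agent.Lib.Helper2.ExtTilde

open Groth.Agent.Lib.Helper2.ExtShCoh Groth.Agent.Lib.Helper2.RHom Groth.Agent.Lib.Helper3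
open Groth.Agent.Lib.Helper2.NatDerived Groth.Agent.Lib.Helper2.ExtDepth

variable {X : Scheme.{u}}

/-- iso-invariance of the local Ext sheaves in both variables -/
def extShIsoOfIso {G G' F F' : X.Modules} [ModSite.HasSheafHom (O := X.sheaf) G]
    [ModSite.HasSheafHom (O := X.sheaf) G'] [HasInjectiveResolutions (ModSite.Mod X.sheaf)]
    (e : G ≅ G') (eF : F ≅ F') (i : ℕ) :
    (ModSite.extSh (O := X.sheaf) G i).obj F ≅ (ModSite.extSh (O := X.sheaf) G' i).obj F' :=
  haveI := ModSite.sheafHom_additive X.sheaf G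
  haveI := ModSite.sheafHom_additive X.sheaf G'
  (ModSite.extSh (O := X.sheaf) G i).mapIso eF ≪≫
    (rightDerivedNatIso (sheafHomIsoOfIso e) i).app F'

section Chart

variable {V : X.Opens} (hV : IsAffineOpen V)

/-- the local Ext sheaves restricted to an affine chart -/
def extShChartIso (G F : X.Modules) [ModSite.HasSheafHom (O := X.sheaf) G]
    [HasInjectiveResolutions (ModSite.Mod X.sheaf)] (i : ℕ) :
    Scheme.Modules.restrict (Y := X) ((ModSite.extSh (O := X.sheaf) G i).obj F) hV.fromSpec ≅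
      (ModSite.extSh (O := (Spec Γ(X, V)).sheaf) (G.restrict hV.fromSpec) i).obj
        (F.restrict hV.fromSpec) :=
  let j₂ : Spec Γ(X, V) ⟶ (V : Scheme.{u}) := hV.isoSpec.inv
  (QCTilde.restrictFacIso (X := X) V.ι j₂ hV.fromSpec rfl
    ((ModSite.extSh (O := X.sheaf) G i).obj F : X.Modules)).symm ≪≫
    (RestrIso.Rj j₂).mapIso ((restrExtShIso V G i).app F) ≪≫
    (RestrIso.restrExtShIso j₂ ((jst V).obj G) i).app ((jst V).obj F) ≪≫
    extShIsoOfIso (QCTilde.restrictFacIso V.ι j₂ hV.fromSpec rfl G)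
      (QCTilde.restrictFacIso V.ι j₂ hV.fromSpec rfl F) i

end Chart

section Sections

theorem isIso_fromTildeΓ_restrict {V : X.Opens} (hV : IsAffineOpen V) (F : X.Modules)
    [F.IsQuasicoherent] : IsIso (F.restrict hV.fromSpec).fromTildeΓ := by
  haveI : (F.restrict hV.fromSpec).IsQuasicoherent :=
    inferInstanceAs ((restrictFunctor hV.fromSpec).obj F).IsQuasicoherent
  exact Scheme.Modules.isIso_fromTildeΓ_of_isQuasicoherent _

/-- a quasi-coherent module on an affine chart is the tilde of its sections over the chart -/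
def tildeSectionsIso {V : X.Opens} (hV : IsAffineOpen V) (F : X.Modules) [F.IsQuasicoherent] :
    (tilde.functor Γ(X, V)).obj (ModuleCat.of Γ(X, V) Γ(F, V)) ≅ F.restrict hV.fromSpec :=
  (tilde.functor Γ(X, V)).mapIso (QCTilde.chartSectionsEquiv hV F).symm.toModuleIso ≪≫
    @asIso _ _ _ _ (F.restrict hV.fromSpec).fromTildeΓ (isIso_fromTildeΓ_restrict hV F)

/-- **Sections of `ℰxt^i(F, G)` over an affine open are `Ext^i` of the sections.** -/
theorem nonempty_sections_extSh_linearEquiv [IsLocallyNoetherian X] {V : X.Opens}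
    (hV : IsAffineOpen V) (F G : X.Modules)
    (hF : Coh.IsCoh F) [G.IsQuasicoherent]
    [ModSite.HasSheafHom (O := X.sheaf) F] [HasInjectiveResolutions (ModSite.Mod X.sheaf)]
    [HasExt.{u} (ModuleCat.{u} Γ(X, V))] (i : ℕ) :
    Nonempty (Γ(((ModSite.extSh (O := X.sheaf) F i).obj G : X.Modules), V) ≃ₗ[Γ(X, V)]
      Abelian.Ext (ModuleCat.of Γ(X, V) Γ(F, V)) (ModuleCat.of Γ(X, V) Γ(G, V)) i) := by
  haveI : F.IsQuasicoherent := hF.1
  haveI : F.IsFiniteType := hF.2
  let R : CommRingCat.{u} := Γ(X, V)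
  haveI : IsNoetherianRing R := IsLocallyNoetherian.component_noetherian ⟨V, hV⟩
  haveI : Module.Finite R (ModuleCat.of R Γ(F, V)) := QCProps.finite_sections F hV
  let H : X.Modules := (ModSite.extSh (O := X.sheaf) F i).obj G
  let e1 := extShChartIso hV F G i
  let e2 := extShIsoOfIso (tildeSectionsIso hV F).symm (tildeSectionsIso hV G).symm i
  obtain ⟨e3⟩ := nonempty_extSh_tilde_iso (R := R) (ModuleCat.of R Γ(G, V)) i
    (ModuleCat.of R Γ(F, V))
  let e4 := (moduleSpecΓFunctor (R := R)).mapIso (e1 ≪≫ e2 ≪≫ e3) ≪≫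
    (tilde.toTildeΓNatIso.app (ModuleCat.of R
      (Abelian.Ext (ModuleCat.of R Γ(F, V)) (ModuleCat.of R Γ(G, V)) i))).symm
  exact ⟨(QCTilde.chartSectionsEquiv hV H).symm.trans e4.toLinearEquiv⟩

end Sections

end Groth.Agent.Lib.Helper2.ExtTilde
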