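import Groth.Agent.Lib.Helper2.ExtTilde.Hom0
import Groth.Agent.Lib.Helper26.HomLF

/-!
# `ℋom(M~, N~) ≅ Hom_R(M, N)~` for the `DCoh` internal Hom (helper2)
-/

set_option autoImplicit false
set_option linter.style.haveILetI false
universe u
open CategoryTheory CategoryTheory.Limits AlgebraicGeometry TopologicalSpace Opposite
open Scheme.Modules

noncomputable section

namespace Groth.Agent.Lib.Helper2.ExtTilde

variable {R : CommRingCat.{u}}

local notation "TT" => tilde.functor R

/-- `ℋom(M~, N~) ≅ Hom_R(M, N)~` (ModSite version) -/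
theorem nonempty_sheafHom_tilde_iso (M N : ModuleCat.{u} R) [Module.FinitePresentation R M]
    [ModSite.HasSheafHom (O := (Spec R).sheaf) ((TT).obj M)] :
    Nonempty ((ModSite.sheafHom (O := (Spec R).sheaf) ((TT).obj M)).obj ((TT).obj N) ≅
      (TT).obj (ModuleCat.of R (M ⟶ N))) := by
  have hq := isQuasicoherent_sheafHom_tilde M ((TT).obj N)
    (inferInstance : ((TT).obj N).IsQuasicoherent)
  haveI := isIso_thetaHom M N hq
  exact ⟨(asIso (thetaHom M N)).symm⟩

/-- `ℋom(M~, N~) ≅ Hom_R(M, N)~` (DCoh version) -/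
theorem nonempty_dcoh_sheafHom_tilde_iso (M N : ModuleCat.{u} R) [Module.FinitePresentation R M]
    [DCoh.HasSheafHom ((TT).obj M)] :
    Nonempty ((DCoh.sheafHom ((TT).obj M)).obj ((TT).obj N) ≅
      (TT).obj (ModuleCat.of R (M ⟶ N))) := by
  haveI : ModSite.HasSheafHom (O := (Spec R).sheaf) ((TT).obj M) :=
    Groth.Agent.Lib.Helper13.ModSiteTensor.hasSheafHom (Spec R).sheaf _
  obtain ⟨e⟩ := nonempty_sheafHom_tilde_iso M N
  exact ⟨(Groth.Agent.Lib.Helper26.HomLF.sheafHomCompIso ((TT).obj M)).app ((TT).obj N) ≪≫ e⟩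

end Groth.Agent.Lib.Helper2.ExtTilde
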