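import Mathlib

/-!
# Dimension shifting for `Ext` in the first variable, linearly (helper2)
-/

set_option autoImplicit false
universe w v u t
open CategoryTheory CategoryTheory.Limits Abelian

noncomputable section

namespace Groth.Agent.Lib.Helper2.ExtTilde

variable {C : Type u} [Category.{v} C] [Abelian C] [HasExt.{w} C]
  (R : Type t) [CommRing R] [Linear R C]
  {S : ShortComplex C} (hS : S.ShortExact) (N : C)

/-- the connecting map `Ext^n(X₁, N) → Ext^{n+1}(X₃, N)`, linear -/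
def deltaLin (n : ℕ) : Ext S.X₁ N n →ₗ[R] Ext S.X₃ N (n + 1) :=
  Ext.precompOfLinear hS.extClass R N (add_comm 1 n)

theorem deltaLin_apply (n : ℕ) (x : Ext S.X₁ N n) :
    deltaLin R hS N n x = hS.extClass.comp x (add_comm 1 n) := rfl

theorem deltaLin_surjective [Projective S.X₂] (n : ℕ) :
    Function.Surjective (deltaLin R hS N n) := by
  intro x₃
  exact Ext.contravariant_sequence_exact₃ hS N x₃ (Ext.eq_zero_of_projective _) (add_comm 1 n)

theorem deltaLin_injective [Projective S.X₂] (n : ℕ) :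
    Function.Injective (deltaLin R hS N (n + 1)) := by
  rw [← LinearMap.ker_eq_bot, LinearMap.ker_eq_bot']
  intro x hx
  obtain ⟨x₂, rfl⟩ := Ext.contravariant_sequence_exact₁ hS N x (add_comm 1 (n + 1)) hx
  rw [Ext.eq_zero_of_projective x₂, Ext.comp_zero]

/-- `Ext^{n+1}(X₁, N) ≃ Ext^{n+2}(X₃, N)` when `X₂` is projective -/
def deltaEquiv [Projective S.X₂] (n : ℕ) : Ext S.X₁ N (n + 1) ≃ₗ[R] Ext S.X₃ N (n + 2) :=
  LinearEquiv.ofBijective (deltaLin R hS N (n + 1))
    ⟨deltaLin_injective R hS N n, deltaLin_surjective R hS N (n + 1)⟩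

/-- the connecting map on `Hom`: `Hom(X₁, N) → Ext^1(X₃, N)` -/
def deltaZero : (S.X₁ ⟶ N) →ₗ[R] Ext S.X₃ N 1 :=
  (deltaLin R hS N 0).comp (Ext.linearEquiv₀ (R := R)).symm.toLinearMap

theorem deltaZero_surjective [Projective S.X₂] : Function.Surjective (deltaZero R hS N) :=
  (deltaLin_surjective R hS N 0).comp (Ext.linearEquiv₀ (R := R)).symm.surjective

theorem deltaZero_apply (f : S.X₁ ⟶ N) :
    deltaZero R hS N f = hS.extClass.comp (Ext.mk₀ f) (add_comm 1 0) := rfl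

theorem deltaZero_comp (g : S.X₂ ⟶ N) : deltaZero R hS N (S.f ≫ g) = 0 := by
  rw [deltaZero_apply, ← Ext.mk₀_comp_mk₀]
  exact hS.extClass_comp_assoc (Ext.mk₀ g)

theorem exists_of_deltaZero_eq_zero (f : S.X₁ ⟶ N) (h : deltaZero R hS N f = 0) :
    ∃ g : S.X₂ ⟶ N, S.f ≫ g = f := by
  obtain ⟨x₂, hx₂⟩ := Ext.contravariant_sequence_exact₁ hS N (Ext.mk₀ f) (add_comm 1 0) h
  refine ⟨Ext.homEquiv₀ x₂, ?_⟩
  apply (Ext.mk₀_bijective S.X₁ N).1
  rw [← Ext.mk₀_comp_mk₀, Ext.mk₀_homEquiv₀_apply]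
  exact hx₂

end Groth.Agent.Lib.Helper2.ExtTilde
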