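import Groth.Agent.Lib.Helper2.ExtTilde.Hom0
import Groth.Agent.Lib.Helper2.ExtTilde.ExtAlg

/-!
# `ℰxt^i(M~, N~) ≅ Ext^i_R(M, N)~` over a Noetherian ring (helper2)
-/

set_option autoImplicit false
set_option linter.style.haveILetI false
universe u
open CategoryTheory CategoryTheory.Limits AlgebraicGeometry TopologicalSpace Opposite
open Scheme.Modules

noncomputable section

namespace Groth.Agent.Lib.Helper2.ExtTilde

open Groth.Agent.Lib.Helper2.ExtShCoh Groth.Agent.Lib.Helper13 Groth.Agent.Lib.Helper13.SheafHomExact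

variable {R : CommRingCat.{u}}

local notation "TT" => tilde.functor R
local notation "ΓΓ" => moduleSpecΓFunctor (R := R)

section Step

variable [HasExt.{u} (ModuleCat.{u} R)] {ι : Type u} [Finite ι]
  {M : ModuleCat.{u} R} (π : ModuleCat.of R (ι →₀ R) ⟶ M) [Epi π] (N : ModuleCat.{u} R)

/-- the short exact sequence `0 → ker π → R^ι → M → 0` -/
abbrev coverSC : ShortComplex (ModuleCat.{u} R) :=
  ShortComplex.mk (kernel.ι π) π (kernel.condition π)

theorem coverSC_shortExact : (coverSC π).ShortExact :=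
  { exact := ShortComplex.exact_of_f_is_kernel _ (kernelIsKernel _)
    mono_f := by dsimp; infer_instance
    epi_g := by dsimp; infer_instance }

theorem tilde_coverSC_shortExact : ((coverSC π).map (TT)).ShortExact := by
  haveI := Groth.Agent.Lib.Helper14.preservesFiniteLimits_tilde R
  haveI := Groth.Agent.Lib.Helper14.preservesFiniteColimits_tilde R
  exact (coverSC_shortExact π).map_of_exact (TT)

instance : Projective (coverSC π).X₂ := by
  dsimp
  exact ModuleCat.projective_of_free (Finsupp.basisSingleOne (R := R) (ι := ι))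

variable [HasInjectiveResolutions (ModSite.Mod (Spec R).sheaf)]

/-- dimension shifting for the Ext sheaves of `M~` -/
theorem nonempty_extSh_shift (q : ℕ) (G : (Spec R).Modules) :
    Nonempty ((ModSite.extSh (O := (Spec R).sheaf) ((TT).obj (kernel π : ModuleCat.{u} R))
        (q + 1)).obj G ≅
      (ModSite.extSh (O := (Spec R).sheaf) ((TT).obj M) (q + 2)).obj G) :=
  nonempty_extSh_iso (O := (Spec R).sheaf) ((TT).map (kernel.ι π)) ((TT).map π)
    ((coverSC π).map (TT)).zero (tilde_coverSC_shortExact π)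
    (pfc_of_isFinFree (isFinFree_tilde_finsupp ι)) q G

/-- the connecting map as a morphism of `ModuleCat R` -/
def deltaMod : ModuleCat.of R ((kernel π : ModuleCat.{u} R) ⟶ N) ⟶ ModuleCat.of R (Abelian.Ext M N 1) :=
  ModuleCat.ofHom (deltaZero R (coverSC_shortExact π) N)

theorem precompMod_deltaMod : precompMod (kernel.ι π) N ≫ deltaMod π N = 0 := by
  ext g
  exact deltaZero_comp R (coverSC_shortExact π) N g

theorem exact_precompMod_deltaMod :
    (ShortComplex.mk (precompMod (kernel.ι π) N) (deltaMod π N) (precompMod_deltaMod π N)).Exact := by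
  rw [ShortComplex.moduleCat_exact_iff]
  intro f hf
  obtain ⟨g, hg⟩ := exists_of_deltaZero_eq_zero R (coverSC_shortExact π) N f hf
  exact ⟨g, hg⟩

instance epi_deltaMod : Epi (deltaMod π N) :=
  (ModuleCat.epi_iff_surjective _).mpr (deltaZero_surjective R (coverSC_shortExact π) N)

/-- `ℰxt^1(M~, N~) ≅ Ext^1(M, N)~` -/
theorem nonempty_extSh_one [Module.FinitePresentation R (kernel π : ModuleCat.{u} R)] :
    Nonempty ((ModSite.extSh (O := (Spec R).sheaf) ((TT).obj M) 1).obj ((TT).obj N) ≅
      (TT).obj (ModuleCat.of R (Abelian.Ext M N 1))) := by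
  obtain ⟨e⟩ := nonempty_cokernel_iso (O := (Spec R).sheaf) ((TT).map (kernel.ι π)) ((TT).map π)
    ((coverSC π).map (TT)).zero (tilde_coverSC_shortExact π)
    (pfc_of_isFinFree (isFinFree_tilde_finsupp ι)) ((TT).obj N)
  have hqN : SheafOfModules.IsQuasicoherent (R := (Spec R).ringCatSheaf) ((TT).obj N) :=
    (inferInstance : ((TT).obj N).IsQuasicoherent)
  haveI := isIso_thetaHom (ModuleCat.of R (ι →₀ R)) N
    (isQuasicoherent_sheafHom_tilde _ _ hqN)
  haveI := isIso_thetaHom (kernel π : ModuleCat.{u} R) N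
    (isQuasicoherent_sheafHom_tilde _ _ hqN)
  let c : cokernel ((TT).map (precompMod (kernel.ι π) N)) ≅
      cokernel ((ExtSupp.sheafHomMap (O := (Spec R).sheaf) ((TT).map (kernel.ι π))).app
        ((TT).obj N)) :=
    cokernel.mapIso _ _ (asIso (thetaHom (ModuleCat.of R (ι →₀ R)) N))
      (asIso (thetaHom (kernel π : ModuleCat.{u} R) N)) (thetaHom_naturality N (kernel.ι π))
  have h0 := (Functor.preservesFiniteColimits_tfae (TT)).out 3 1
  have hTT := h0.mp (Groth.Agent.Lib.Helper14.preservesFiniteColimits_tilde R)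
    (ShortComplex.mk (precompMod (kernel.ι π) N) (deltaMod π N) (precompMod_deltaMod π N))
    ⟨exact_precompMod_deltaMod π N, epi_deltaMod π N⟩
  haveI : Epi ((ShortComplex.mk (precompMod (kernel.ι π) N) (deltaMod π N)
    (precompMod_deltaMod π N)).map (TT)).g := hTT.2
  let d : cokernel ((TT).map (precompMod (kernel.ι π) N)) ≅
      (TT).obj (ModuleCat.of R (Abelian.Ext M N 1)) :=
    (colimit.isColimit _).coconePointUniqueUpToIso hTT.1.gIsCokernel
  exact ⟨e.symm ≪≫ c.symm ≪≫ d⟩

end Step

section Main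

variable [IsNoetherianRing R] [HasExt.{u} (ModuleCat.{u} R)]
  [HasInjectiveResolutions (ModSite.Mod (Spec R).sheaf)] (N : ModuleCat.{u} R)

theorem nonempty_extSh_zero_tilde (M : ModuleCat.{u} R) [Module.Finite R M] :
    Nonempty ((ModSite.extSh (O := (Spec R).sheaf) ((TT).obj M) 0).obj ((TT).obj N) ≅
      (TT).obj (ModuleCat.of R (Abelian.Ext M N 0))) := by
  haveI := pfl_sheafHom (O := (Spec R).sheaf) ((TT).obj M)
  haveI := ModSite.sheafHom_additive (Spec R).sheaf ((TT).obj M)
  have hqN : SheafOfModules.IsQuasicoherent (R := (Spec R).ringCatSheaf) ((TT).obj N) :=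
    (inferInstance : ((TT).obj N).IsQuasicoherent)
  haveI : Module.FinitePresentation R M := Module.finitePresentation_of_finite R M
  haveI := isIso_thetaHom M N (isQuasicoherent_sheafHom_tilde _ _ hqN)
  exact ⟨(ModSite.sheafHom (O := (Spec R).sheaf) ((TT).obj M)).rightDerivedZeroIsoSelf.app
      ((TT).obj N) ≪≫ (asIso (thetaHom M N)).symm ≪≫
    (TT).mapIso (Abelian.Ext.linearEquiv₀ (R := R) (X := M) (Y := N)).symm.toModuleIso⟩

theorem nonempty_extSh_succ_tilde : ∀ (q : ℕ) (M : ModuleCat.{u} R) [Module.Finite R M],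
    Nonempty ((ModSite.extSh (O := (Spec R).sheaf) ((TT).obj M) (q + 1)).obj ((TT).obj N) ≅
      (TT).obj (ModuleCat.of R (Abelian.Ext M N (q + 1)))) := by
  intro q
  induction q with
  | zero =>
    intro M _
    obtain ⟨ι, hι, π, hπ, hK, -⟩ := exists_free_cover M
    haveI : Module.Finite R (kernel π : ModuleCat.{u} R) := hK inferInstance
    haveI : Module.FinitePresentation R (kernel π : ModuleCat.{u} R) :=
      Module.finitePresentation_of_finite R _
    exact nonempty_extSh_one π N
  | succ q ih =>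
    intro M _
    obtain ⟨ι, hι, π, hπ, hK, -⟩ := exists_free_cover M
    haveI : Module.Finite R (kernel π : ModuleCat.{u} R) := hK inferInstance
    obtain ⟨e⟩ := nonempty_extSh_shift π q ((TT).obj N)
    obtain ⟨e'⟩ := ih (kernel π : ModuleCat.{u} R)
    exact ⟨e.symm ≪≫ e' ≪≫
      (TT).mapIso (deltaEquiv R (coverSC_shortExact π) N q).toModuleIso⟩

/-- **`ℰxt^i(M~, N~) ≅ Ext^i_R(M, N)~`** for `M` finite over a Noetherian ring. -/
theorem nonempty_extSh_tilde_iso (i : ℕ) (M : ModuleCat.{u} R) [Module.Finite R M] :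
    Nonempty ((ModSite.extSh (O := (Spec R).sheaf) ((TT).obj M) i).obj ((TT).obj N) ≅
      (TT).obj (ModuleCat.of R (Abelian.Ext M N i))) := by
  cases i with
  | zero => exact nonempty_extSh_zero_tilde N M
  | succ q => exact nonempty_extSh_succ_tilde N q M

end Main

end Groth.Agent.Lib.Helper2.ExtTilde
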