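import Groth.Agent.Lib.Helper2.ExtTilde.QC

/-!
# `ℋom(M~, N~) ≅ Hom_R(M, N)~`, naturally in `M` (helper2)
-/

set_option autoImplicit false
set_option linter.style.haveILetI false
universe u
open CategoryTheory CategoryTheory.Limits AlgebraicGeometry TopologicalSpace Opposite
open Scheme.Modules

noncomputable section

namespace Groth.Agent.Lib.Helper2.ExtTilde

open Groth.Agent.Lib.Helper2.ExtShCoh Groth.Agent.Lib.Helper13 Groth.Agent.Lib.Helper13.SheafHomExact

variable {R : CommRingCat.{u}}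

local notation "TT" => tilde.functor R
local notation "ΓΓ" => moduleSpecΓFunctor (R := R)

/-- `N ≅ Γ(N~)` -/
def isoΓ (N : ModuleCat.{u} R) : N ≅ (ΓΓ).obj ((TT).obj N) := tilde.isoTop N

/-- `Hom_R(M, N) → Γ(ℋom(M~, N~))`, linear -/
def thetaLin (M N : ModuleCat.{u} R) [ModSite.HasSheafHom (O := (Spec R).sheaf) ((TT).obj M)] :
    (M ⟶ N) →ₗ[R]
      Γ((ModSite.sheafHom (O := (Spec R).sheaf) ((TT).obj M)).obj ((TT).obj N), ⊤) :=
  (gammaHom M ((TT).obj N)).comp (Linear.rightComp R M (isoΓ N).hom)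

theorem thetaLin_apply (M N : ModuleCat.{u} R)
    [ModSite.HasSheafHom (O := (Spec R).sheaf) ((TT).obj M)] (f : M ⟶ N) :
    thetaLin M N f = gammaHom M ((TT).obj N) (f ≫ (isoΓ N).hom) := rfl

theorem thetaLin_bijective (M N : ModuleCat.{u} R)
    [ModSite.HasSheafHom (O := (Spec R).sheaf) ((TT).obj M)] :
    Function.Bijective (thetaLin M N) := by
  refine (gammaHom_bijective M _).comp ?_
  constructor
  · intro f g h
    exact (cancel_mono (isoΓ N).hom).mp h
  · intro g
    exact ⟨g ≫ (isoΓ N).inv, by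
      change (g ≫ (isoΓ N).inv) ≫ (isoΓ N).hom = g
      rw [Category.assoc, Iso.inv_hom_id, Category.comp_id]⟩

/-- naturality of `thetaLin` in `M` -/
theorem comp_thetaLin {M M' : ModuleCat.{u} R} (N : ModuleCat.{u} R)
    [ModSite.HasSheafHom (O := (Spec R).sheaf) ((TT).obj M)]
    [ModSite.HasSheafHom (O := (Spec R).sheaf) ((TT).obj M')] (a : M' ⟶ M) (f : M ⟶ N) :
    thetaLin M' N (a ≫ f) =
      Scheme.Modules.Hom.app
        ((ExtSupp.sheafHomMap (O := (Spec R).sheaf) ((TT).map a)).app ((TT).obj N)) ⊤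
        (thetaLin M N f) := by
  rw [thetaLin_apply, thetaLin_apply, Category.assoc]
  exact comp_gammaHom _ a _

/-- `thetaLin` as a morphism of `ModuleCat R` -/
def thetaMod (M N : ModuleCat.{u} R) [ModSite.HasSheafHom (O := (Spec R).sheaf) ((TT).obj M)] :
    ModuleCat.of R (M ⟶ N) ⟶
      (ΓΓ).obj ((ModSite.sheafHom (O := (Spec R).sheaf) ((TT).obj M)).obj ((TT).obj N)) :=
  let φ : ModuleCat.of R (M ⟶ N) ⟶ ModuleCat.of R
      Γ((ModSite.sheafHom (O := (Spec R).sheaf) ((TT).obj M)).obj ((TT).obj N), ⊤) :=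
    ModuleCat.ofHom (thetaLin M N)
  φ

instance isIso_thetaMod (M N : ModuleCat.{u} R)
    [ModSite.HasSheafHom (O := (Spec R).sheaf) ((TT).obj M)] : IsIso (thetaMod M N) :=
  (ConcreteCategory.isIso_iff_bijective _).mpr
    (show Function.Bijective (thetaLin M N) from thetaLin_bijective M N)

/-- the comparison `Hom_R(M, N)~ ⟶ ℋom(M~, N~)` -/
def thetaHom (M N : ModuleCat.{u} R) [ModSite.HasSheafHom (O := (Spec R).sheaf) ((TT).obj M)] :
    (TT).obj (ModuleCat.of R (M ⟶ N)) ⟶
      (ModSite.sheafHom (O := (Spec R).sheaf) ((TT).obj M)).obj ((TT).obj N) :=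
  (tilde.adjunction.homEquiv _ _).symm (thetaMod M N)

theorem isIso_thetaHom (M N : ModuleCat.{u} R)
    [ModSite.HasSheafHom (O := (Spec R).sheaf) ((TT).obj M)]
    (hq : SheafOfModules.IsQuasicoherent (R := (Spec R).ringCatSheaf)
      ((ModSite.sheafHom (O := (Spec R).sheaf) ((TT).obj M)).obj ((TT).obj N))) :
    IsIso (thetaHom M N) := by
  haveI : IsIso (tilde.adjunction.counit.app
      ((ModSite.sheafHom (O := (Spec R).sheaf) ((TT).obj M)).obj ((TT).obj N))) :=
    @Scheme.Modules.isIso_fromTildeΓ_of_isQuasicoherent _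
      ((ModSite.sheafHom (O := (Spec R).sheaf) ((TT).obj M)).obj ((TT).obj N)) hq
  dsimp only [thetaHom]
  rw [Adjunction.homEquiv_counit]
  infer_instance

/-- the precomposition map `Hom_R(M, N) → Hom_R(M', N)` as a morphism of `ModuleCat R` -/
def precompMod {M M' : ModuleCat.{u} R} (a : M' ⟶ M) (N : ModuleCat.{u} R) :
    ModuleCat.of R (M ⟶ N) ⟶ ModuleCat.of R (M' ⟶ N) :=
  ModuleCat.ofHom (Linear.leftComp R N a)

/-- naturality of `thetaHom` in `M` -/
theorem thetaHom_naturality {M M' : ModuleCat.{u} R} (N : ModuleCat.{u} R)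
    [ModSite.HasSheafHom (O := (Spec R).sheaf) ((TT).obj M)]
    [ModSite.HasSheafHom (O := (Spec R).sheaf) ((TT).obj M')] (a : M' ⟶ M) :
    (TT).map (precompMod a N) ≫ thetaHom M' N =
      thetaHom M N ≫
        (ExtSupp.sheafHomMap (O := (Spec R).sheaf) ((TT).map a)).app ((TT).obj N) := by
  have h1 := tilde.adjunction.homEquiv_naturality_left_symm (precompMod a N) (thetaMod M' N)
  have h2 := tilde.adjunction.homEquiv_naturality_right_symm (thetaMod M N)
    ((ExtSupp.sheafHomMap (O := (Spec R).sheaf) ((TT).map a)).app ((TT).obj N))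
  have h3 : precompMod a N ≫ thetaMod M' N = thetaMod M N ≫
      (ΓΓ).map ((ExtSupp.sheafHomMap (O := (Spec R).sheaf) ((TT).map a)).app ((TT).obj N)) := by
    ext f
    exact comp_thetaLin N a f
  dsimp only [thetaHom]
  rw [← h1, h3, h2]

end Groth.Agent.Lib.Helper2.ExtTilde
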