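import Groth.Agent.Lib.Helper2.ExtTilde.Chart
import Groth.Agent.Lib.Helper26.HomLF
import Groth.Agent.Lib.Helper4.HomSk
import Groth.Agent.Lib.Helper12.JacSupport
import Groth.Agent.Lib.Helper1.MaxAnnInt

/-!
# Depth and support of the stalks of `ℋom(F, G)` (helper2)
-/

set_option autoImplicit false
set_option linter.style.haveILetI false
universe u
open CategoryTheory CategoryTheory.Limits AlgebraicGeometry TopologicalSpace Opposite
open Scheme.Modules

noncomputable section

namespace Groth.Agent.Lib.Helper2.ExtTilde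

open Groth.Agent.Lib.Helper2.ExtShCoh Groth.Agent.Lib.Helper3 Groth.Agent.Lib.Helper2.ExtDepth
open Groth.Agent.Lib.Lead Groth.Agent.Lib.Helper4

variable {X : Scheme.{u}}

/-- an isomorphism of modules induces linear equivalences on sections -/
def sectionsLinearEquiv {H H' : X.Modules} (φ : H ≅ H') (V : X.Opens) :
    Γ(H, V) ≃ₗ[Γ(X, V)] Γ(H', V) where
  toFun := φ.hom.app V
  invFun := φ.inv.app V
  map_add' := map_add _
  map_smul' r x := Scheme.Modules.Hom.app_smul φ.hom r x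
  left_inv x := by
    change (φ.hom ≫ φ.inv).app V x = x
    rw [Iso.hom_inv_id]; rfl
  right_inv x := by
    change (φ.inv ≫ φ.hom).app V x = x
    rw [Iso.inv_hom_id]; rfl

variable [IsLocallyNoetherian X]

/-- the comparison `DCoh.sheafHom F G ≅ ℰxt^0(F, G)` -/
def dcohSheafHomIsoExtZero (F G : X.Modules) [DCoh.HasSheafHom F]
    [ModSite.HasSheafHom (O := X.sheaf) F] [HasInjectiveResolutions (ModSite.Mod X.sheaf)] :
    (DCoh.sheafHom F).obj G ≅ ((ModSite.extSh (O := X.sheaf) F 0).obj G : X.Modules) :=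
  haveI := Groth.Agent.Lib.Helper13.SheafHomExact.pfl_sheafHom (O := X.sheaf) F
  haveI := ModSite.sheafHom_additive X.sheaf F
  (Groth.Agent.Lib.Helper26.HomLF.sheafHomCompIso F).app G ≪≫
    ((ModSite.sheafHom (O := X.sheaf) F).rightDerivedZeroIsoSelf.app G).symm

/-- sections of `ℋom(F, G)` over an affine open are `Hom` of the sections -/
theorem nonempty_sections_sheafHom_linearEquiv {V : X.Opens} (hV : IsAffineOpen V)
    (F G : X.Modules) (hF : Coh.IsCoh F) [G.IsQuasicoherent] [DCoh.HasSheafHom F] :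
    Nonempty (Γ((DCoh.sheafHom F).obj G, V) ≃ₗ[Γ(X, V)] (Γ(F, V) →ₗ[Γ(X, V)] Γ(G, V))) := by
  haveI : ModSite.HasSheafHom (O := X.sheaf) F :=
    Groth.Agent.Lib.Helper13.ModSiteTensor.hasSheafHom X.sheaf F
  obtain ⟨e⟩ := nonempty_sections_extSh_linearEquiv hV F G hF 0
  exact ⟨(sectionsLinearEquiv (dcohSheafHomIsoExtZero F G) V).trans (e.trans
    ((Abelian.Ext.linearEquiv₀ (R := Γ(X, V))).trans ModuleCat.homLinearEquiv))⟩

theorem isCoh_dcoh_sheafHom (F G : X.Modules) (hF : Coh.IsCoh F) (hG : Coh.IsCoh G)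
    [DCoh.HasSheafHom F] : Coh.IsCoh ((DCoh.sheafHom F).obj G) := by
  haveI : ModSite.HasSheafHom (O := X.sheaf) F :=
    Groth.Agent.Lib.Helper13.ModSiteTensor.hasSheafHom X.sheaf F
  exact isCoh_of_iso' ((Groth.Agent.Lib.Helper26.HomLF.sheafHomCompIso F).app G).symm
    (isCoh_sheafHom F G hF hG)

/-- **depth of the stalks of `ℋom(F, G)`** -/
theorem depth_stalk_sheafHom_ge (F G : X.Modules) (hF : Coh.IsCoh F) (hG : Coh.IsCoh G)
    [DCoh.HasSheafHom F] (x : X) :
    ((1 : ℕ∞) ≤ LocCoh.depth (X.presheaf.stalk x) (G.presheaf.stalk x) →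
      (1 : ℕ∞) ≤ LocCoh.depth (X.presheaf.stalk x)
        (((DCoh.sheafHom F).obj G).presheaf.stalk x)) ∧
    ((2 : ℕ∞) ≤ LocCoh.depth (X.presheaf.stalk x) (G.presheaf.stalk x) →
      (2 : ℕ∞) ≤ LocCoh.depth (X.presheaf.stalk x)
        (((DCoh.sheafHom F).obj G).presheaf.stalk x)) := by
  haveI : F.IsQuasicoherent := hF.1
  haveI : F.IsFiniteType := hF.2
  haveI : G.IsQuasicoherent := hG.1
  haveI : G.IsFiniteType := hG.2
  have hH := isCoh_dcoh_sheafHom F G hF hG
  haveI : ((DCoh.sheafHom F).obj G).IsQuasicoherent := hH.1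
  obtain ⟨V, hV, hx⟩ := QCProps.exists_affine_nbhd x
  let p : Ideal Γ(X, V) := (hV.primeIdealOf ⟨x, hx⟩).asIdeal
  haveI : IsNoetherianRing Γ(X, V) := IsLocallyNoetherian.component_noetherian ⟨V, hV⟩
  haveI : Module.Finite Γ(X, V) Γ(F, V) := QCProps.finite_sections F hV
  haveI : Module.Finite Γ(X, V) Γ(G, V) := QCProps.finite_sections G hV
  obtain ⟨e⟩ := nonempty_sections_sheafHom_linearEquiv hV F G hF
  have h1 := HZDepthK.depth_stalk_eq G hV x hx
  have h2 := HZDepthK.depth_stalk_eq ((DCoh.sheafHom F).obj G) hV x hx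
  let g : Γ((DCoh.sheafHom F).obj G, V) →ₗ[Γ(X, V)]
      LocalizedModule p.primeCompl (Γ(F, V) →ₗ[Γ(X, V)] Γ(G, V)) :=
    (LocalizedModule.mkLinearMap p.primeCompl (Γ(F, V) →ₗ[Γ(X, V)] Γ(G, V))).comp e.toLinearMap
  haveI : IsLocalizedModule p.primeCompl g := IsLocalizedModule.of_linearEquiv_right _ _ e
  have h3 := HZDepthA.depth_eq_of_isLocalizedModule p (Localization.AtPrime p) g
  have h4 : LocCoh.depth (Localization.AtPrime p)
      (LocalizedModule p.primeCompl (Γ(F, V) →ₗ[Γ(X, V)] Γ(G, V))) =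
      LocCoh.idealDepth (IsLocalRing.maximalIdeal (Localization.AtPrime p))
        (LocalizedModule p.primeCompl Γ(F, V) →ₗ[Localization.AtPrime p]
          LocalizedModule p.primeCompl Γ(G, V)) :=
    idealDepth_congr _ (localizedLinearMapEquiv Γ(X, V) Γ(F, V) Γ(G, V) p)
  rw [h1, h2, ← h3, h4]
  exact ⟨one_le_idealDepth_linearMap _, two_le_idealDepth_linearMap _⟩

/-- the support of `ℋom(F, G)` is contained in the support of `G` -/
theorem support_sheafHom_subset (F G : X.Modules) (hF : Coh.IsCoh F) (hG : Coh.IsCoh G)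
    [DCoh.HasSheafHom F] :
    CohB1.support ((DCoh.sheafHom F).obj G) ⊆ CohB1.support G := by
  intro t ht
  haveI : F.IsQuasicoherent := hF.1
  haveI : F.IsFiniteType := hF.2
  haveI : G.IsQuasicoherent := hG.1
  haveI : G.IsFiniteType := hG.2
  have hH := isCoh_dcoh_sheafHom F G hF hG
  haveI : ((DCoh.sheafHom F).obj G).IsQuasicoherent := hH.1
  obtain ⟨V, hV, htV⟩ := QCProps.exists_affine_nbhd t
  haveI : Module.Finite Γ(X, V) Γ(G, V) := QCProps.finite_sections G hV
  obtain ⟨e⟩ := nonempty_sections_sheafHom_linearEquiv hV F G hF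
  have h1 := annihilator_le_primeIdealOf_of_mem_support ((DCoh.sheafHom F).obj G) hV t htV ht
  rw [e.annihilator_eq] at h1
  refine mem_support_of_annihilator_le_primeIdealOf hV G t htV (le_trans ?_ h1)
  intro a ha
  rw [Module.mem_annihilator] at ha ⊢
  intro φ
  ext m
  exact ha (φ m)

/-- the support dimension of the stalks of `ℋom(F, G)` is at most that of `G` -/
theorem supportDim_stalk_sheafHom_le (F G : X.Modules) (hF : Coh.IsCoh F) (hG : Coh.IsCoh G)
    [DCoh.HasSheafHom F] (x : X) :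
    Module.supportDim (X.presheaf.stalk x) (((DCoh.sheafHom F).obj G).presheaf.stalk x) ≤
      Module.supportDim (X.presheaf.stalk x) (G.presheaf.stalk x) := by
  haveI : G.IsQuasicoherent := hG.1
  haveI : G.IsFiniteType := hG.2
  have hH := isCoh_dcoh_sheafHom F G hF hG
  haveI : ((DCoh.sheafHom F).obj G).IsQuasicoherent := hH.1
  haveI : ((DCoh.sheafHom F).obj G).IsFiniteType := hH.2
  rw [Groth.Agent.Lib.Helper12.JacLocalDim.supportDim_stalk_eq _
      (Groth.Agent.Lib.Helper1.MaxAnnInt.isClosed_support _) x,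
    Groth.Agent.Lib.Helper12.JacLocalDim.supportDim_stalk_eq G
      (Groth.Agent.Lib.Helper1.MaxAnnInt.isClosed_support G) x]
  have hsub : {t : X | t ∈ CohB1.support ((DCoh.sheafHom F).obj G) ∧ t ⤳ x} ⊆
      {t : X | t ∈ CohB1.support G ∧ t ⤳ x} :=
    fun t ht => ⟨support_sheafHom_subset F G hF hG ht.1, ht.2⟩
  exact (Topology.IsEmbedding.inclusion hsub).isInducing.topologicalKrullDim_le

/-- **`(S_1)` and `(S_2)` pass to `ℋom(F, G)`** -/
theorem sheafHom_hasSk (F G : X.Modules) (hF : Coh.IsCoh F) (hG : Coh.IsCoh G)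
    [DCoh.HasSheafHom F] (k : ℕ) (hk : k = 1 ∨ k = 2) (x : X)
    (hS : min (k : WithBot ℕ∞) (Module.supportDim (X.presheaf.stalk x) (G.presheaf.stalk x)) ≤
      ((LocCoh.depth (X.presheaf.stalk x) (G.presheaf.stalk x) : ℕ∞) : WithBot ℕ∞)) :
    min (k : WithBot ℕ∞)
        (Module.supportDim (X.presheaf.stalk x) (((DCoh.sheafHom F).obj G).presheaf.stalk x)) ≤
      ((LocCoh.depth (X.presheaf.stalk x) (((DCoh.sheafHom F).obj G).presheaf.stalk x) : ℕ∞) :
        WithBot ℕ∞) := by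
  obtain ⟨h1, h2⟩ := depth_stalk_sheafHom_ge F G hF hG x
  refine sk_transfer k _ _ _ _ (supportDim_stalk_sheafHom_le F G hF hG x) ?_ hS
  rcases hk with rfl | rfl
  · exact min_one_le_of_imp _ _ h1
  · exact min_two_le_of_imp _ _ h1 h2

end Groth.Agent.Lib.Helper2.ExtTilde
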