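import Groth.Agent.Lib.Helper2.ExtTilde.Spec
import Groth.Agent.Lib.Helper3.QCProps

/-!
# Quasi-coherence of `ℋom(F, G)` for `F` finitely presented, `G` quasi-coherent (helper2)
-/

set_option autoImplicit false
set_option linter.style.haveILetI false
universe u
open CategoryTheory CategoryTheory.Limits AlgebraicGeometry TopologicalSpace Opposite
open Scheme.Modules

noncomputable section

namespace Groth.Agent.Lib.Helper2.ExtTilde

open Groth.Agent.Lib.Helper2.ExtShCoh Groth.Agent.Lib.Helper13 Groth.Agent.Lib.Helper13.SheafHomExact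
  Groth.Agent.Lib.Helper7.FreeHomExact Groth.Agent.Lib.Helper3

attribute [local instance] Abelian.hasFiniteBiproducts

section General

variable {Y : Scheme.{u}}

lemma isFinFree_of_iso {E E' : Y.Modules} (e : E ≅ E') (h : IsFinFree E) : IsFinFree E' := by
  obtain ⟨n, ⟨e'⟩⟩ := h
  exact ⟨n, ⟨e.symm ≪≫ e'⟩⟩

lemma isQuasicoherent_of_iso {M N : Y.Modules} (e : M ≅ N)
    (h : SheafOfModules.IsQuasicoherent (R := Y.ringCatSheaf) M) :
    SheafOfModules.IsQuasicoherent (R := Y.ringCatSheaf) N :=
  (SheafOfModules.isQuasicoherent Y.ringCatSheaf).prop_of_iso e h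

lemma isQuasicoherent_sheafHom_free {E : Y.Modules} (hE : IsFinFree E) (G : Y.Modules)
    [ModSite.HasSheafHom (O := Y.sheaf) E]
    (hG : SheafOfModules.IsQuasicoherent (R := Y.ringCatSheaf) G) :
    SheafOfModules.IsQuasicoherent (R := Y.ringCatSheaf)
      ((ModSite.sheafHom (O := Y.sheaf) E).obj G) := by
  obtain ⟨n, ⟨e⟩⟩ := hE
  refine isQuasicoherent_of_iso ((sheafHomFreeIso Y.sheaf n E e).app G).symm ?_
  exact Groth.Agent.Lib.Helper1.FFCoh.isQuasicoherent_biproduct (fun _ : Fin n => G) (fun _ => hG)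

/-- `ℋom(F, G)` is quasi-coherent when `F` has a finite presentation by finite free modules and
`G` is quasi-coherent. -/
theorem isQuasicoherent_sheafHom_of_presentation (F G : Y.Modules)
    [ModSite.HasSheafHom (O := Y.sheaf) F]
    (hG : SheafOfModules.IsQuasicoherent (R := Y.ringCatSheaf) G) {E₀ E₁ : Y.Modules}
    [ModSite.HasSheafHom (O := Y.sheaf) E₀] [ModSite.HasSheafHom (O := Y.sheaf) E₁]
    (h₀ : IsFinFree E₀) (h₁ : IsFinFree E₁)
    (q : E₁ ⟶ E₀) (p : E₀ ⟶ F) (hp : Epi p) (w : q ≫ p = 0)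
    (hex : (ShortComplex.mk q p w).Exact) :
    SheafOfModules.IsQuasicoherent (R := Y.ringCatSheaf)
      ((ModSite.sheafHom (O := Y.sheaf) F).obj G) := by
  haveI hp' : @Epi (ModSite.Mod Y.sheaf) _ _ _ p := hp
  have h1 := exact_sheafHomMap (O := Y.sheaf) q p w hex G
  have h2 : Mono ((ExtSupp.sheafHomMap (O := Y.sheaf) p).app G) :=
    mono_sheafHomMap_app (O := Y.sheaf) p G
  obtain ⟨e⟩ := nonempty_iso_kernel_of_exact _ _ _ h1 h2
  refine isQuasicoherent_of_iso e.symm ?_
  haveI := isQuasicoherent_sheafHom_free h₀ G hG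
  haveI := isQuasicoherent_sheafHom_free h₁ G hG
  exact QCProps.isQuasicoherent_kernel _

end General

section Spec

variable {R : CommRingCat.{u}}

local notation "TT" => tilde.functor R

lemma isFinFree_tilde_finsupp (ι : Type u) [Finite ι] :
    IsFinFree ((TT).obj (ModuleCat.of R (ι →₀ R))) :=
  isFinFree_of_iso (tildeFinsupp ι).symm (isFinFree_free ι)

/-- a finite free cover of a finite module, with its kernel, as a short exact sequence -/
theorem exists_free_cover (M : ModuleCat.{u} R) [Module.Finite R M] :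
    ∃ (ι : Type u) (_ : Finite ι) (π : ModuleCat.of R (ι →₀ R) ⟶ M), Epi π ∧
      (IsNoetherianRing R → Module.Finite R (kernel π : ModuleCat.{u} R)) ∧
      (Module.FinitePresentation R M → Module.Finite R (kernel π : ModuleCat.{u} R)) := by
  obtain ⟨s, hsfin, hs⟩ := Submodule.fg_def.mp (Module.Finite.fg_top (R := R) (M := M))
  haveI : Finite s := hsfin.to_subtype
  let π : ModuleCat.of R (s →₀ R) ⟶ M :=
    ModuleCat.ofHom (Finsupp.linearCombination R ((↑) : s → M))
  have hf : Function.Surjective π.hom := by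
    rw [← LinearMap.range_eq_top]
    change LinearMap.range (Finsupp.linearCombination R ((↑) : s → M)) = ⊤
    rw [Finsupp.range_linearCombination]
    simpa using hs
  have key : Module.Finite R (LinearMap.ker π.hom) → Module.Finite R (kernel π : ModuleCat.{u} R) :=
    fun h => Module.Finite.equiv (ModuleCat.kernelIsoKer π).toLinearEquiv.symm
  refine ⟨s, inferInstance, π, (ModuleCat.epi_iff_surjective _).mpr hf, ?_, ?_⟩
  · intro _
    exact key inferInstance
  · intro _
    exact key (Module.Finite.iff_fg.mpr (Module.FinitePresentation.fg_ker π.hom hf))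

/-- a finite presentation of a finitely presented module, as an exact sequence with epi -/
theorem exists_free_presentation (M : ModuleCat.{u} R) [Module.FinitePresentation R M] :
    ∃ (ι ι' : Type u) (_ : Finite ι) (_ : Finite ι')
      (q : ModuleCat.of R (ι' →₀ R) ⟶ ModuleCat.of R (ι →₀ R)) (π : ModuleCat.of R (ι →₀ R) ⟶ M)
      (w : q ≫ π = 0), Epi π ∧ (ShortComplex.mk q π w).Exact := by
  obtain ⟨ι, hι, π, hπ, -, hK⟩ := exists_free_cover M
  haveI : Module.Finite R (kernel π : ModuleCat.{u} R) := hK inferInstance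
  obtain ⟨ι', hι', π', hπ', -, -⟩ := exists_free_cover (kernel π : ModuleCat.{u} R)
  have w : (π' ≫ kernel.ι π) ≫ π = 0 := by rw [Category.assoc, kernel.condition, comp_zero]
  refine ⟨ι, ι', hι, hι', π' ≫ kernel.ι π, π, w, hπ, ?_⟩
  let S₀ : ShortComplex (ModuleCat.{u} R) := ShortComplex.mk (kernel.ι π) π (kernel.condition π)
  have h₀ : S₀.Exact := ShortComplex.exact_of_f_is_kernel S₀ (kernelIsKernel _)
  let φ : ShortComplex.mk (π' ≫ kernel.ι π) π w ⟶ S₀ :=
    { τ₁ := π'
      τ₂ := 𝟙 _
      τ₃ := 𝟙 _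
      comm₁₂ := by simp [S₀]
      comm₂₃ := by simp [S₀] }
  haveI : Epi φ.τ₁ := hπ'
  haveI : IsIso φ.τ₂ := inferInstanceAs (IsIso (𝟙 _))
  haveI : Mono φ.τ₃ := inferInstanceAs (Mono (𝟙 _))
  exact (ShortComplex.exact_iff_of_epi_of_isIso_of_mono φ).2 h₀

/-- `ℋom(M~, G)` is quasi-coherent for `M` finitely presented and `G` quasi-coherent. -/
theorem isQuasicoherent_sheafHom_tilde (M : ModuleCat.{u} R) [Module.FinitePresentation R M]
    (G : (Spec R).Modules) [ModSite.HasSheafHom (O := (Spec R).sheaf) ((TT).obj M)]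
    (hG : SheafOfModules.IsQuasicoherent (R := (Spec R).ringCatSheaf) G) :
    SheafOfModules.IsQuasicoherent (R := (Spec R).ringCatSheaf)
      ((ModSite.sheafHom (O := (Spec R).sheaf) ((TT).obj M)).obj G) := by
  obtain ⟨ι, ι', hι, hι', q, π, w, hπ, hex⟩ := exists_free_presentation M
  haveI := Groth.Agent.Lib.Helper14.preservesFiniteColimits_tilde R
  have h0 := (Functor.preservesFiniteColimits_tfae (TT)).out 3 1
  have h := h0.mp (Groth.Agent.Lib.Helper14.preservesFiniteColimits_tilde R)
    (ShortComplex.mk q π w) ⟨hex, hπ⟩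
  exact isQuasicoherent_sheafHom_of_presentation ((TT).obj M) G hG
    (isFinFree_tilde_finsupp ι) (isFinFree_tilde_finsupp ι') ((TT).map q) ((TT).map π) h.2
    (by rw [← Functor.map_comp, w, Functor.map_zero]) h.1

end Spec

end Groth.Agent.Lib.Helper2.ExtTilde
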