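import Groth.Agent.Lib.Helper2.ExtTilde.Base
import Groth.Agent.Lib.Helper2.ExtDepth.SpecCore

/-!
# `Γ(Spec R, ℋom(M~, G)) = Hom_R(M, Γ G)`, `R`-linearly and naturally (helper2)
-/

set_option autoImplicit false
set_option linter.style.haveILetI false
universe u
open CategoryTheory CategoryTheory.Limits AlgebraicGeometry TopologicalSpace Opposite
open Scheme.Modules

noncomputable section

namespace Groth.Agent.Lib.Helper2.ExtTilde

open Groth.Agent.Lib.Lead.HomExt Groth.Agent.Lib.Helper3.QCSec Groth.Agent.Lib.Helper3.HomMk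
open Groth.Agent.Lib.Helper2.ExtDepth

variable {R : CommRingCat.{u}}

local notation "TT" => tilde.functor R
local notation "ΓΓ" => moduleSpecΓFunctor (R := R)

theorem gf_smul (H : (Spec R).Modules) (r : R) (s : Γ(H, ⊤)) : gf r • s = r • s := by
  rw [Scheme.Modules.smul_Spec_def]
  congr 1

theorem Γ_map_mulHom (G : (Spec R).Modules) (r : R) :
    (ΓΓ).map (mulHom (gf r) G) = r • 𝟙 ((ΓΓ).obj G) := by
  ext s
  let s' : Γ(G, ⊤) := s
  show (mulHom (gf r) G).app ⊤ s' = r • s'
  rw [mulHom_app, show rT (gf r) (⊤ : (Spec R).Opens) = gf r from rres_self _ _]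
  exact gf_smul G r s'

/-- `Hom_R(M, Γ G) → Γ(ℋom(M~, G))` -/
def gammaHom (M : ModuleCat.{u} R) (G : (Spec R).Modules)
    [ModSite.HasSheafHom (O := (Spec R).sheaf) ((TT).obj M)] :
    (M ⟶ (ΓΓ).obj G) →ₗ[R] Γ((ModSite.sheafHom (O := (Spec R).sheaf) ((TT).obj M)).obj G, ⊤) where
  toFun f := homToSec ((TT).obj M) G ((tilde.adjunction.homEquiv M G).symm f)
  map_add' f g := by
    have h : (tilde.adjunction.homEquiv M G).symm (f + g) =
        (tilde.adjunction.homEquiv M G).symm f + (tilde.adjunction.homEquiv M G).symm g :=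
      (tilde.adjunction.homAddEquiv M G).symm.map_add f g
    rw [h, map_add]
  map_smul' r f := by
    have h1 : r • f = f ≫ (ΓΓ).map (mulHom (gf r) G) := by
      rw [Γ_map_mulHom, Linear.comp_smul, Category.comp_id]
    have h2 := tilde.adjunction.homEquiv_naturality_right_symm f (mulHom (gf r) G)
    rw [h1, h2, homToSec_mulHom, gf_smul]
    rfl

theorem gammaHom_apply (M : ModuleCat.{u} R) (G : (Spec R).Modules)
    [ModSite.HasSheafHom (O := (Spec R).sheaf) ((TT).obj M)] (f : M ⟶ (ΓΓ).obj G) :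
    gammaHom M G f = homToSec ((TT).obj M) G ((tilde.adjunction.homEquiv M G).symm f) := rfl

theorem gammaHom_bijective (M : ModuleCat.{u} R) (G : (Spec R).Modules)
    [ModSite.HasSheafHom (O := (Spec R).sheaf) ((TT).obj M)] :
    Function.Bijective (gammaHom M G) :=
  (homToSec_bijective _ _).comp (tilde.adjunction.homEquiv M G).symm.bijective

/-- naturality in `M` -/
theorem comp_gammaHom {M M' : ModuleCat.{u} R} (G : (Spec R).Modules)
    [ModSite.HasSheafHom (O := (Spec R).sheaf) ((TT).obj M)]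
    [ModSite.HasSheafHom (O := (Spec R).sheaf) ((TT).obj M')] (a : M' ⟶ M)
    (f : M ⟶ (ΓΓ).obj G) :
    gammaHom M' G (a ≫ f) =
      Scheme.Modules.Hom.app ((ExtSupp.sheafHomMap (O := (Spec R).sheaf) ((TT).map a)).app G) ⊤
        (gammaHom M G f) := by
  have h := tilde.adjunction.homEquiv_naturality_left_symm a f
  rw [gammaHom_apply, h]
  exact comp_homToSec G ((TT).map a) _

/-- naturality in `G` -/
theorem gammaHom_comp (M : ModuleCat.{u} R) {G G' : (Spec R).Modules}
    [ModSite.HasSheafHom (O := (Spec R).sheaf) ((TT).obj M)] (f : M ⟶ (ΓΓ).obj G) (g : G ⟶ G') :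
    gammaHom M G' (f ≫ (ΓΓ).map g) =
      Scheme.Modules.Hom.app ((ModSite.sheafHom (O := (Spec R).sheaf) ((TT).obj M)).map g) ⊤
        (gammaHom M G f) := by
  have h := tilde.adjunction.homEquiv_naturality_right_symm f g
  rw [gammaHom_apply, h]
  exact homToSec_comp ((TT).obj M) _ g

end Groth.Agent.Lib.Helper2.ExtTilde
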